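import Cfsg.Agent.H26.CharFS

/-!
# The character of the exterior square
-/

set_option autoImplicit false

namespace Cfsg.Agent.H63.HalfNorm

open Module Representation
open scoped ComplexConjugate

variable {G : Type*} [Group G]

/-- The trace of a representation composed with a commuting idempotent is a character. -/
theorem isCharacter_trace_idem {V : Type*} [AddCommGroup V] [Module ℂ V] [FiniteDimensional ℂ V]
    (ρ : Representation ℂ G V) (e : V →ₗ[ℂ] V) (he : e ∘ₗ e = e)
    (hcomm : ∀ g, ρ g ∘ₗ e = e ∘ₗ ρ g) :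
    Cfsg.IsCharacter G fun g => LinearMap.trace ℂ V (ρ g ∘ₗ e) := by
  have hinv : ∀ g, ∀ v ∈ LinearMap.range e, ρ g v ∈ LinearMap.range e := by
    rintro g v ⟨w, rfl⟩
    exact ⟨ρ g w, (LinearMap.congr_fun (hcomm g) w).symm⟩
  let σ : Representation ℂ G (LinearMap.range e) :=
    { toFun := fun g => (ρ g).restrict (hinv g)
      map_one' := by ext v; simp [LinearMap.restrict_apply]
      map_mul' := fun a b => by ext v; simp [LinearMap.restrict_apply] }
  have h : σ.character = fun g => LinearMap.trace ℂ V (ρ g ∘ₗ e) := by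
    funext g
    have hmem : ∀ v, (ρ g ∘ₗ e) v ∈ LinearMap.range e := fun v =>
      hinv g (e v) (LinearMap.mem_range_self e v)
    rw [← LinearMap.trace_restrict_eq_of_forall_mem (LinearMap.range e) _ hmem (fun v _ => hmem v)]
    rw [Representation.character]
    congr 1
    ext v
    obtain ⟨w, hw⟩ := v.2
    show ρ g v.1 = ρ g (e v.1)
    rw [← hw, show e (e w) = e w from LinearMap.congr_fun he w]
  rw [← h]
  exact H26.isCharacter_char σ

/-- The exterior square of a class function. -/
noncomputable def extSq (χ : G → ℂ) (g : G) : ℂ := (χ g ^ 2 - χ (g * g)) / 2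

theorem isCharacter_extSq {χ : G → ℂ} (hχ : Cfsg.IsCharacter G χ) :
    Cfsg.IsCharacter G (extSq χ) := by
  obtain ⟨n, ρ, rfl⟩ := hχ
  let A : G →* Matrix (Fin n) (Fin n) ℂ :=
    { toFun := fun x => LinearMap.toMatrix' (ρ x)
      map_one' := by simp [Module.End.one_eq_id]
      map_mul' := fun x y => by simp [LinearMap.toMatrix'_comp, Module.End.mul_eq_comp] }
  have hA : ∀ g, Matrix.trace (A g) = ρ.character g := fun g =>
    (LinearMap.trace_eq_matrix_trace ℂ (Pi.basisFun ℂ (Fin n)) (ρ g)).symm
  let τ : Matrix (Fin n) (Fin n) ℂ →ₗ[ℂ] Matrix (Fin n) (Fin n) ℂ :=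
    (Matrix.transposeLinearEquiv (Fin n) (Fin n) ℂ ℂ).toLinearMap
  let e : Matrix (Fin n) (Fin n) ℂ →ₗ[ℂ] Matrix (Fin n) (Fin n) ℂ :=
    (1 / 2 : ℂ) • (LinearMap.id - τ)
  have hτ2 : ∀ M, τ (τ M) = M := fun M => Matrix.transpose_transpose M
  have hτc : ∀ g, H26.formRep A g ∘ₗ τ = τ ∘ₗ H26.formRep A g := fun g => by
    refine LinearMap.ext fun M => ?_
    simp [τ, H26.formRep_apply, Matrix.transposeLinearEquiv, Matrix.transpose_mul,
      Matrix.mul_assoc]
  have he : e ∘ₗ e = e := by
    refine LinearMap.ext fun M => ?_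
    simp only [e, LinearMap.comp_apply, LinearMap.smul_apply, LinearMap.sub_apply,
      LinearMap.id_apply, map_smul, map_sub, hτ2]
    module
  have hc : ∀ g, H26.formRep A g ∘ₗ e = e ∘ₗ H26.formRep A g := fun g => by
    refine LinearMap.ext fun M => ?_
    have := LinearMap.congr_fun (hτc g) M
    simp only [LinearMap.comp_apply] at this
    simp only [e, LinearMap.comp_apply, LinearMap.smul_apply, LinearMap.sub_apply,
      LinearMap.id_apply, map_smul, map_sub, this]
  convert isCharacter_trace_idem (H26.formRep A) e he hc using 1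
  funext g
  have h1 : LinearMap.trace ℂ _ (H26.formRep A g) = Matrix.trace (A g) ^ 2 :=
    H26.char_formRep A g
  have h2 := H26.trace_formRep_transpose A g
  simp only [e, LinearMap.comp_smul, LinearMap.comp_sub, LinearMap.comp_id, map_smul, map_sub]
  rw [h1, show LinearMap.trace ℂ _ (H26.formRep A g ∘ₗ τ) = Matrix.trace (A (g * g)) from h2, hA,
    hA, smul_eq_mul, extSq]
  ring

variable [Fintype G]

/-- An orthogonal irreducible character does not have the trivial character in its exterior
square. -/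
theorem inner_extSq_one (χ : Cfsg.IrrCharacter G) (hν : H26.fsIndicator χ.1 = 1) :
    Cfsg.classInner (extSq χ.1) (fun _ => 1) = 0 := by
  classical
  have hc : H26.conjIrr χ = χ := by
    by_contra h
    exact one_ne_zero (hν.symm.trans ((H26.fsIndicator_cases χ).1 h))
  have h1 : (Nat.card G : ℂ)⁻¹ * ∑ g : G, χ.1 g ^ 2 = 1 := by
    simp only [sq]
    rw [H26.sum_sq_eq_ite, if_pos hc]
  rw [H26.fsIndicator] at hν
  simp only [Cfsg.classInner, extSq, map_one, mul_one, ← Finset.sum_div, Finset.sum_sub_distrib]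
  rw [mul_div, mul_sub, h1, hν]
  simp

end Cfsg.Agent.H63.HalfNorm
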