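import Cfsg.Agent.H25.CharInd
import Cfsg.Agent.H26.CharBasic
import Cfsg.Agent.H26.CharOrtho
import Cfsg.Agent.H57.VChar
import Cfsg.Agent.H68.CharTools
import Cfsg.Agent.H63.Wielandt.Algebra

/-!
# A subgroup of order `p` with normaliser dihedral of order `2p`

The functions `D k` induced from `1 - λ_k` on the subgroup, their values and inner products.
-/

set_option autoImplicit false
set_option linter.unusedSectionVars false

namespace Cfsg.Agent.H63.HalfNorm

open Finset ComplexConjugate Subgroup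
open Cfsg.Agent.H63.Wielandt (ψ sum_ψ_mul conj_ψ)

/-- An element of prime order `p`, self-centralising, inverted, and not otherwise normalised, whose
subgroup contains a conjugate of every element of order `p`. -/
structure Setup (G : Type*) [Group G] (p : ℕ) where
  x : G
  hx : orderOf x = p
  cent : ∀ g : G, g * x = x * g → g ∈ zpowers x
  inverted : ∃ t : G, t * x * t⁻¹ = x⁻¹
  norm : ∀ g : G, g * x * g⁻¹ ∈ zpowers x → g * x * g⁻¹ = x ∨ g * x * g⁻¹ = x⁻¹
  fuse : ∀ g : G, orderOf g = p → ∃ c : G, c * g * c⁻¹ ∈ zpowers x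

variable {G : Type*} [Group G] {p : ℕ} [Fact p.Prime]

namespace Setup

variable (S : Setup G p)

/-- The powers of `x`, indexed by `ZMod p`. -/
def e (j : ZMod p) : G := S.x ^ j.val

theorem e_mem (j : ZMod p) : S.e j ∈ zpowers S.x := pow_mem (mem_zpowers _) _

theorem e_natCast (n : ℕ) : S.e (n : ZMod p) = S.x ^ n := by
  rw [e, ZMod.val_natCast, pow_eq_pow_iff_modEq, S.hx]
  exact Nat.mod_modEq n p

theorem x_pow_p : S.x ^ p = 1 := by
  have h := pow_orderOf_eq_one S.x
  rwa [S.hx] at h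

theorem e_zero : S.e 0 = 1 := by simp [e]

theorem e_one : S.e 1 = S.x := by
  simpa using S.e_natCast 1

theorem e_add (a b : ZMod p) : S.e (a + b) = S.e a * S.e b := by
  conv_lhs => rw [← ZMod.natCast_zmod_val a, ← ZMod.natCast_zmod_val b, ← Nat.cast_add]
  rw [S.e_natCast, pow_add]
  rfl

theorem e_neg (a : ZMod p) : S.e (-a) = (S.e a)⁻¹ :=
  eq_inv_of_mul_eq_one_left (by rw [← S.e_add, neg_add_cancel, S.e_zero])

theorem e_injective : Function.Injective S.e := by
  intro a b h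
  have h' := pow_eq_pow_iff_modEq.1 h
  rw [S.hx] at h'
  exact ZMod.val_injective p
    (Nat.ModEq.eq_of_lt_of_lt h' (ZMod.val_lt a) (ZMod.val_lt b))

theorem exists_e {g : G} (hg : g ∈ zpowers S.x) : ∃ j, S.e j = g := by
  have hfin : IsOfFinOrder S.x := orderOf_pos_iff.1 (by rw [S.hx]; exact (Fact.out : p.Prime).pos)
  obtain ⟨n, rfl⟩ := (hfin.mem_powers_iff_mem_zpowers).2 hg
  exact ⟨(n : ZMod p), S.e_natCast n⟩

theorem e_eq_one_iff {j : ZMod p} : S.e j = 1 ↔ j = 0 :=
  ⟨fun h => S.e_injective (by rw [h, S.e_zero]), fun h => by rw [h, S.e_zero]⟩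

theorem orderOf_e {j : ZMod p} (hj : j ≠ 0) : orderOf (S.e j) = p := by
  refine orderOf_eq_prime ?_ (mt S.e_eq_one_iff.1 hj)
  rw [e, ← pow_mul, mul_comm, pow_mul, S.x_pow_p, one_pow]

/-- `ZMod p` as the subgroup generated by `x`. -/
noncomputable def eP : ZMod p ≃ ↥(zpowers S.x) :=
  Equiv.ofBijective (fun j => ⟨S.e j, S.e_mem j⟩)
    ⟨fun _ _ h => S.e_injective (congrArg Subtype.val h), fun g => by
      obtain ⟨j, hj⟩ := S.exists_e g.2
      exact ⟨j, Subtype.ext hj⟩⟩

theorem eP_coe (j : ZMod p) : ((S.eP j : ↥(zpowers S.x)) : G) = S.e j := rfl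

theorem eP_symm_mul (a b : ↥(zpowers S.x)) : S.eP.symm (a * b) = S.eP.symm a + S.eP.symm b := by
  apply S.eP.injective
  apply Subtype.ext
  rw [Equiv.apply_symm_apply, eP_coe, S.e_add, ← eP_coe, ← eP_coe, Equiv.apply_symm_apply,
    Equiv.apply_symm_apply]
  rfl

theorem card_P : Nat.card (zpowers S.x) = p := by rw [Nat.card_zpowers, S.hx]

/-- The linear character `x ^ j ↦ ψ (k * j)`. -/
noncomputable def lam (k : ZMod p) : ↥(zpowers S.x) →* ℂˣ :=
  MonoidHom.toHomUnits
    { toFun := fun h => ψ p (k * S.eP.symm h)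
      map_one' := by
        have : S.eP.symm 1 = 0 := S.eP.injective (by
          rw [Equiv.apply_symm_apply]; exact Subtype.ext S.e_zero.symm)
        rw [this, mul_zero, AddChar.map_zero_eq_one]
      map_mul' := fun a b => by rw [S.eP_symm_mul, mul_add, AddChar.map_add_eq_mul] }

theorem lam_eP (k j : ZMod p) : ((S.lam k (S.eP j) : ℂˣ) : ℂ) = ψ p (k * j) := by
  simp [lam, MonoidHom.coe_toHomUnits]

theorem sum_P [Fintype ↥(zpowers S.x)] (f : ↥(zpowers S.x) → ℂ) :
    ∑ h, f h = ∑ j : ZMod p, f (S.eP j) :=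
  (Fintype.sum_equiv S.eP _ _ fun _ => rfl).symm

variable [Fintype G]

theorem card_conj_fibre {y : G} (hy : ∃ t : G, t * S.x * t⁻¹ = y) [DecidableEq G] :
    #{g : G | g⁻¹ * S.x * g = y} = p := by
  obtain ⟨t, rfl⟩ := hy
  rw [← Fintype.card_subtype, ← Nat.card_eq_fintype_card]
  conv_rhs => rw [← S.card_P]
  refine Nat.card_congr ⟨fun g => ⟨g.1 * t, ?_⟩, fun h => ⟨h.1 * t⁻¹, ?_⟩, fun g => ?_, fun h => ?_⟩
  · refine S.cent _ ?_
    calc g.1 * t * S.x = g.1 * (t * S.x * t⁻¹) * t := by group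
      _ = g.1 * (g.1⁻¹ * S.x * g.1) * t := by rw [g.2]
      _ = S.x * (g.1 * t) := by group
  · obtain ⟨j, hj⟩ := S.exists_e h.2
    have hc : (h.1)⁻¹ * S.x * h.1 = S.x := by
      rw [← hj, ← S.e_neg, ← S.e_one, ← S.e_add, ← S.e_add]
      congr 1
      ring
    calc (h.1 * t⁻¹)⁻¹ * S.x * (h.1 * t⁻¹) = t * ((h.1)⁻¹ * S.x * h.1) * t⁻¹ := by group
      _ = t * S.x * t⁻¹ := by rw [hc]
  · exact Subtype.ext (by group)
  · exact Subtype.ext (by group)

/-- A function induced from `P` at a nontrivial element of `P`. -/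
theorem indFun_e (hp2 : p ≠ 2) (θ : ↥(zpowers S.x) → ℂ) {j : ZMod p} (hj : j ≠ 0) :
    Cfsg.indFun (zpowers S.x) θ (S.e j) = θ (S.eP j) + θ (S.eP (-j)) := by
  classical
  have hp : p.Prime := Fact.out
  have hne : S.x ≠ S.x⁻¹ := by
    intro h
    have h2 : orderOf S.x ∣ 2 := orderOf_dvd_of_pow_eq_one (by
      rw [sq]; nth_rw 1 [h]; exact inv_mul_cancel _)
    rw [S.hx] at h2
    rcases (Nat.dvd_prime Nat.prime_two).1 h2 with h | h
    · exact hp.ne_one h
    · exact hp2 h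
  have hext : ∀ g : G, Cfsg.extendByZero (zpowers S.x) θ (g⁻¹ * S.e j * g)
      = (if g⁻¹ * S.x * g = S.x then θ (S.eP j) else 0)
        + (if g⁻¹ * S.x * g = S.x⁻¹ then θ (S.eP (-j)) else 0) := by
    intro g
    have hpow : g⁻¹ * S.e j * g = (g⁻¹ * S.x * g) ^ j.val := by
      rw [e]; simpa using (conj_pow (i := j.val) (a := g⁻¹) (b := S.x)).symm
    rw [hpow]
    by_cases h1 : g⁻¹ * S.x * g = S.x
    · rw [if_pos h1, if_neg (fun h => hne (h1.symm.trans h)), add_zero, h1]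
      exact H25.extendByZero_apply_coe _ θ (S.eP j)
    by_cases h2 : g⁻¹ * S.x * g = S.x⁻¹
    · rw [if_neg h1, if_pos h2, zero_add, h2, inv_pow]
      rw [show (S.x ^ j.val)⁻¹ = S.e (-j) by rw [S.e_neg]; rfl]
      exact H25.extendByZero_apply_coe _ θ (S.eP (-j))
    rw [if_neg h1, if_neg h2, add_zero]
    refine H25.extendByZero_of_notMem _ _ fun hm => ?_
    have hmem : g⁻¹ * S.x * g ∈ zpowers S.x := by
      have h3 : (g⁻¹ * S.x * g) ^ p = 1 := by
        have := conj_pow (i := p) (a := g⁻¹) (b := S.x)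
        rw [inv_inv] at this
        rw [this, S.x_pow_p]
        simp
      obtain ⟨m, hm'⟩ := exists_pow_eq_self_of_coprime (x := g⁻¹ * S.x * g) (n := j.val) (by
        refine Nat.Coprime.coprime_dvd_right (orderOf_dvd_of_pow_eq_one h3) ?_
        refine (Nat.Prime.coprime_iff_not_dvd hp).2 (fun hd => hj ?_) |>.symm
        exact (ZMod.val_eq_zero j).1 (Nat.eq_zero_of_dvd_of_lt hd (ZMod.val_lt j)))
      rw [← hm']
      exact pow_mem hm m
    rcases S.norm g⁻¹ (by simpa using hmem) with h | h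
    · exact h1 (by simpa using h)
    · exact h2 (by simpa using h)
  rw [H25.indFun_apply, Finset.sum_congr rfl fun g _ => hext g, Finset.sum_add_distrib,
    Finset.sum_ite, Finset.sum_ite, Finset.sum_const_zero, Finset.sum_const_zero, add_zero,
    add_zero, Finset.sum_const, Finset.sum_const, S.card_conj_fibre ⟨1, by simp⟩,
    S.card_conj_fibre S.inverted, S.card_P, nsmul_eq_mul, nsmul_eq_mul, ← mul_add,
    inv_mul_cancel_left₀ (Nat.cast_ne_zero.2 hp.ne_zero)]

/-- A function induced from `P` and vanishing at `1` lives on the elements of order `p`. -/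
theorem indFun_support (θ : ↥(zpowers S.x) → ℂ) (h1 : θ 1 = 0) {g : G} (hg : orderOf g ≠ p) :
    Cfsg.indFun (zpowers S.x) θ g = 0 := by
  by_cases hg1 : g = 1
  · rw [hg1, H25.indFun_one, h1, mul_zero]
  refine H25.indFun_eq_zero _ _ fun c hc => hg ?_
  obtain ⟨j, hj⟩ := S.exists_e hc
  have hj0 : j ≠ 0 := fun h => hg1 (by
    rw [h, S.e_zero] at hj
    calc g = c * (c⁻¹ * g * c) * c⁻¹ := by group
      _ = 1 := by rw [← hj]; group)
  have := S.orderOf_e hj0
  rw [hj] at this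
  rw [← this]
  simpa using (MulEquiv.orderOf_eq (MulAut.conj c⁻¹) g).symm

/-- The induced functions `(1 - λ_k)^G`. -/
noncomputable def D (k : ZMod p) : G → ℂ :=
  Cfsg.indFun (zpowers S.x) fun h => 1 - ((S.lam k h : ℂˣ) : ℂ)

theorem D_support (k : ZMod p) {g : G} (hg : orderOf g ≠ p) : S.D k g = 0 :=
  S.indFun_support _ (by simp) hg

theorem D_one (k : ZMod p) : S.D k 1 = 0 :=
  S.D_support k (by rw [orderOf_one]; exact (Fact.out : p.Prime).one_lt.ne)

theorem D_e (hp2 : p ≠ 2) (k : ZMod p) {j : ZMod p} (hj : j ≠ 0) :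
    S.D k (S.e j) = 2 - ψ p (k * j) - ψ p (-(k * j)) := by
  rw [D, S.indFun_e hp2 _ hj, S.lam_eP, S.lam_eP, mul_neg]
  ring

theorem D_isGen (k : ZMod p) : Cfsg.IsGeneralizedCharacter G (S.D k) := by
  have e1 : (fun h => 1 - ((S.lam k h : ℂˣ) : ℂ)) =
      (fun h => (((1 : ↥(zpowers S.x) →* ℂˣ) h : ℂˣ) : ℂ)) - fun h => ((S.lam k h : ℂˣ) : ℂ) := by
    funext h; simp
  rw [D, e1, H25.indFun_sub]
  exact H57.gen_sub (H57.gen_of_char (H68.isCharacter_indFun_hom _ _))
    (H57.gen_of_char (H68.isCharacter_indFun_hom _ _))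

theorem inner_indFun (θ : ↥(zpowers S.x) → ℂ) {F : G → ℂ} (hF : Cfsg.IsClassFunction G F) :
    Cfsg.classInner (Cfsg.indFun (zpowers S.x) θ) F
      = (p : ℂ)⁻¹ * ∑ j : ZMod p, θ (S.eP j) * conj (F (S.e j)) := by
  classical
  rw [H25.classInner_indFun_left _ θ F hF, Cfsg.classInner, S.card_P, S.sum_P]
  rfl

theorem inner_D (k : ZMod p) {F : G → ℂ} (hF : Cfsg.IsClassFunction G F) :
    Cfsg.classInner (S.D k) F = (p : ℂ)⁻¹ * ∑ j : ZMod p, (1 - ψ p (k * j)) * conj (F (S.e j)) := by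
  simp [D, S.inner_indFun _ hF, S.lam_eP]

theorem sum_one_sub_ψ {k : ZMod p} (hk : k ≠ 0) : ∑ j : ZMod p, (1 - ψ p (k * j)) = p := by
  simp only [mul_comm k]
  simp [Finset.sum_sub_distrib, sum_ψ_mul p, hk]

/-- Pairing with a function that is constant on `P` minus the identity. -/
theorem inner_D_const {k : ZMod p} (hk : k ≠ 0) {F : G → ℂ} (hF : Cfsg.IsClassFunction G F) {c : ℤ}
    (hc : ∀ j : ZMod p, j ≠ 0 → F (S.e j) = c) : Cfsg.classInner (S.D k) F = c := by
  have e1 : ∀ j : ZMod p, (1 - ψ p (k * j)) * conj (F (S.e j)) = (1 - ψ p (k * j)) * c := by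
    intro j
    by_cases hj : j = 0
    · simp [hj]
    · rw [hc j hj, map_intCast]
  rw [S.inner_D k hF, Finset.sum_congr rfl fun j _ => e1 j, ← Finset.sum_mul, sum_one_sub_ψ hk,
    inv_mul_cancel_left₀ (Nat.cast_ne_zero.2 (Fact.out : p.Prime).ne_zero)]

/-- Conversely, equal pairings with all `D k` force a constant. -/
theorem const_of_inner_D {F : G → ℂ} (hF : Cfsg.IsClassFunction G F) {c : ℤ}
    (hc : ∀ k : ZMod p, k ≠ 0 → Cfsg.classInner (S.D k) F = c) {z : ZMod p} (hz : z ≠ 0) :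
    F (S.e z) = c := by
  have hp0 : (p : ℂ) ≠ 0 := Nat.cast_ne_zero.2 (Fact.out : p.Prime).ne_zero
  set H : ZMod p → ℂ := fun j => if j = 0 then 0 else conj (F (S.e j)) - c with hH
  have hzero : ∀ k : ZMod p, ∑ j : ZMod p, (1 - ψ p (k * j)) * H j = 0 := by
    intro k
    by_cases hk : k = 0
    · simp [hk]
    have h1 := hc k hk
    rw [S.inner_D k hF, inv_mul_eq_iff_eq_mul₀ hp0] at h1
    have e1 : ∀ j : ZMod p, (1 - ψ p (k * j)) * H j
        = (1 - ψ p (k * j)) * conj (F (S.e j)) - (1 - ψ p (k * j)) * c := by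
      intro j
      by_cases hj : j = 0
      · simp [hj, hH]
      · simp only [hH, if_neg hj]; ring
    rw [Finset.sum_congr rfl fun j _ => e1 j, Finset.sum_sub_distrib, h1, ← Finset.sum_mul,
      sum_one_sub_ψ hk, sub_self]
  have h2 : ∑ k : ZMod p, ψ p (k * -z) * ∑ j : ZMod p, (1 - ψ p (k * j)) * H j = 0 := by
    simp [hzero]
  simp only [Finset.mul_sum] at h2
  rw [Finset.sum_comm] at h2
  have e2 : ∀ j k : ZMod p, ψ p (k * -z) * ((1 - ψ p (k * j)) * H j)
      = H j * (ψ p (k * -z) - ψ p (k * (j + -z))) := by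
    intro j k
    rw [mul_add k j, AddChar.map_add_eq_mul]
    ring
  simp only [e2, ← Finset.mul_sum, Finset.sum_sub_distrib, sum_ψ_mul p, neg_eq_zero, hz, if_false,
    zero_sub, ← sub_eq_add_neg, sub_eq_zero] at h2
  rw [Finset.sum_eq_single z (fun j _ hjz => by simp [hjz]) (by simp)] at h2
  simp only [if_true, mul_neg, neg_eq_zero, mul_eq_zero, hp0, or_false, hH, if_neg hz,
    sub_eq_zero] at h2
  have := congrArg conj h2
  simpa using this

theorem inner_D_D (hp2 : p ≠ 2) {k l : ZMod p} (hk : k ≠ 0) (hl : l ≠ 0) :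
    Cfsg.classInner (S.D k) (S.D l)
      = 2 + (if k = l then 1 else 0) + (if k = -l then 1 else 0) := by
  have hp0 : (p : ℂ) ≠ 0 := Nat.cast_ne_zero.2 (Fact.out : p.Prime).ne_zero
  have e1 : ∀ j : ZMod p, (1 - ψ p (k * j)) * conj (S.D l (S.e j))
      = 2 * ψ p (j * 0) - ψ p (j * l) - ψ p (j * -l) - 2 * ψ p (j * k) + ψ p (j * (k + l))
        + ψ p (j * (k - l)) := by
    intro j
    simp only [mul_zero, AddChar.map_zero_eq_one, mul_one, mul_add, mul_sub, mul_neg,
      sub_eq_add_neg (j * k), AddChar.map_add_eq_mul]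
    rw [mul_comm j k, mul_comm j l]
    by_cases hj : j = 0
    · subst hj
      simp [S.e_zero, S.D_one]; norm_num
    · rw [S.D_e hp2 l hj, map_sub, map_sub, map_ofNat, conj_ψ p, conj_ψ p, neg_neg]
      ring
  rw [S.inner_D k (F := S.D l) (H25.isClassFunction_indFun _ _),
    Finset.sum_congr rfl fun j _ => e1 j]
  simp only [Finset.sum_add_distrib, Finset.sum_sub_distrib, ← Finset.mul_sum, sum_ψ_mul p,
    if_true, hk, hl, neg_eq_zero, if_false, sub_eq_zero, add_eq_zero_iff_eq_neg]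
  rw [inv_mul_eq_iff_eq_mul₀ hp0]
  split_ifs <;> ring

theorem inner_D_self (hp2 : p ≠ 2) {k : ZMod p} (hk : k ≠ 0) :
    Cfsg.classInner (S.D k) (S.D k) = 3 := by
  rw [S.inner_D_D hp2 hk hk, if_pos rfl, if_neg]
  · norm_num
  · intro h
    have h2 : (2 : ZMod p) * k = 0 := by linear_combination h
    rcases mul_eq_zero.1 h2 with h3 | h3
    · have h4 : (p : ℕ) ∣ 2 := (ZMod.natCast_eq_zero_iff 2 p).1 (by exact_mod_cast h3)
      exact hp2 ((Nat.prime_dvd_prime_iff_eq Fact.out Nat.prime_two).1 h4)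
    · exact hk h3

theorem isConj_e {g : G} (hg : orderOf g = p) : ∃ j : ZMod p, j ≠ 0 ∧ IsConj g (S.e j) := by
  obtain ⟨c, hc⟩ := S.fuse g hg
  obtain ⟨j, hj⟩ := S.exists_e hc
  refine ⟨j, fun h => ?_, isConj_iff.2 ⟨c, hj.symm⟩⟩
  rw [h, S.e_zero] at hj
  have hg1 : g = 1 := by
    calc g = c⁻¹ * (c * g * c⁻¹) * c := by group
      _ = 1 := by rw [← hj]; group
  rw [hg1, orderOf_one] at hg
  exact (Fact.out : p.Prime).one_lt.ne hg

theorem classFunction_eq_of_isConj {F : G → ℂ} (hF : Cfsg.IsClassFunction G F) {g h : G}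
    (hgh : IsConj g h) : F g = F h := by
  obtain ⟨c, rfl⟩ := isConj_iff.1 hgh
  exact (hF g c).symm

/-- Sum of a class function over the elements of order `p`. -/
theorem sum_order_p [DecidableEq G] (hp2 : p ≠ 2) {F : G → ℂ} (hF : Cfsg.IsClassFunction G F) :
    2 * p * ∑ g with orderOf g = p, F g
      = Nat.card G * ∑ j ∈ univ.erase (0 : ZMod p), F (S.e j) := by
  classical
  set u : ↥(zpowers S.x) → ℂ := fun h => if h = 1 then 0 else 1 with hu
  have hval : ∀ g : G, Cfsg.indFun (zpowers S.x) u g = if orderOf g = p then 2 else 0 := by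
    intro g
    split_ifs with hg
    · obtain ⟨j, hj, hgj⟩ := S.isConj_e hg
      rw [classFunction_eq_of_isConj (H25.isClassFunction_indFun _ _) hgj, S.indFun_e hp2 _ hj]
      have h0 : ∀ i : ZMod p, i ≠ 0 → S.eP i ≠ 1 := fun i hi h =>
        hi (S.e_eq_one_iff.1 (congrArg Subtype.val h))
      simp only [hu, if_neg (h0 j hj), if_neg (h0 _ (neg_ne_zero.2 hj))]
      norm_num
    · exact S.indFun_support _ (by simp [hu]) hg
  have hF' : Cfsg.IsClassFunction G fun g => conj (F g) := fun a b => by simp [hF a b]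
  have h1 := S.inner_indFun u hF'
  simp only [Cfsg.classInner, Complex.conj_conj, hval, ite_mul, zero_mul] at h1
  rw [← Finset.sum_filter, ← Finset.mul_sum] at h1
  have h0 : ∀ j : ZMod p, u (S.eP j) * F (S.e j) = if j = 0 then 0 else F (S.e j) := by
    intro j
    by_cases hj : j = 0
    · subst hj
      simp [hu, show S.eP 0 = 1 from Subtype.ext S.e_zero]
    · have hne : S.eP j ≠ 1 := fun h => hj (S.e_eq_one_iff.1 (congrArg Subtype.val h))
      simp only [hu, if_neg hne, if_neg hj, one_mul]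
  rw [Finset.sum_congr rfl fun j _ => h0 j, Finset.sum_ite, Finset.sum_const_zero, zero_add,
    Finset.filter_ne'] at h1
  have hp0 : (p : ℂ) ≠ 0 := Nat.cast_ne_zero.2 (Fact.out : p.Prime).ne_zero
  have hG : (Nat.card G : ℂ) ≠ 0 := Nat.cast_ne_zero.2 Nat.card_pos.ne'
  field_simp at h1
  linear_combination h1

end Setup

end Cfsg.Agent.H63.HalfNorm
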