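import Cfsg.Agent.H63.HalfNorm.Values
import Cfsg.Agent.H26.CharPerm

/-!
# Permutation groups with a Sylow normaliser of order `2p`
-/

set_option autoImplicit false
set_option linter.unusedSectionVars false
set_option linter.style.haveILetI false

namespace Cfsg.Agent.H63.HalfNorm

open Finset ComplexConjugate Subgroup
open scoped Pointwise

/-- The configuration from a Sylow normaliser of order `2p` in a primitive group. -/
theorem exists_setup {α : Type*} [Finite α] {p : ℕ} [Fact p.Prime] (hp2 : p ≠ 2)
    (G : Subgroup (Equiv.Perm α)) (hprim : MulAction.IsPreprimitive G α) [Nonempty α]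
    (hdvd : p ∣ Nat.card α) (P : Sylow p G)
    (hN : Nat.card (Subgroup.normalizer ((P : Subgroup G) : Set G)) = 2 * p) :
    ∃ S : Setup G p, Nat.card (P : Subgroup G) = p ∧ zpowers S.x = (P : Subgroup G) := by
  classical
  have hp : p.Prime := Fact.out
  haveI := hprim.toIsPretransitive
  obtain ⟨a⟩ := ‹Nonempty α›
  have hpG : p ∣ Nat.card G := hdvd.trans
    (MulAction.index_stabilizer_of_transitive G a ▸ Subgroup.index_dvd_card _)
  set N := Subgroup.normalizer ((P : Subgroup G) : Set G) with hNdef
  have hPN : (P : Subgroup G) ≤ N := Subgroup.le_normalizer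
  have hcard : Nat.card (P : Subgroup G) = p := by
    obtain ⟨k, hk⟩ := IsPGroup.iff_card.1 P.2
    have h1 : p ^ k ∣ 2 * p := by rw [← hk, ← hN]; exact Subgroup.card_dvd_of_le hPN
    have h0 : k ≠ 0 := fun e => by
      have := P.dvd_card_of_dvd_card hpG
      rw [hk, e, pow_zero] at this
      exact hp.one_lt.ne' (Nat.dvd_one.1 this)
    have h2 : k < 2 := by
      by_contra hge
      have : p ^ 2 ∣ 2 * p := (pow_dvd_pow p (by omega)).trans h1
      rw [sq] at this
      have := (Nat.prime_dvd_prime_iff_eq hp Nat.prime_two).1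
        (Nat.dvd_of_mul_dvd_mul_right hp.pos this)
      exact hp2 this
    rw [hk, show k = 1 by omega, pow_one]
  obtain ⟨x₀, hx₀⟩ := exists_prime_orderOf_dvd_card' (G := (P : Subgroup G)) p (by rw [hcard])
  set x : G := (x₀ : G) with hxdef
  have hx : orderOf x = p := by rw [hxdef, Subgroup.orderOf_coe, hx₀]
  have hPx : zpowers x = (P : Subgroup G) :=
    Subgroup.eq_of_le_of_card_ge (zpowers_le.2 x₀.2) (by rw [hcard, Nat.card_zpowers, hx])
  have hidx : ((P : Subgroup G).subgroupOf N).index = 2 := by
    have h := ((P : Subgroup G).subgroupOf N).card_mul_index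
    rw [Nat.card_congr (Subgroup.subgroupOfEquivOfLe hPN).toEquiv, hcard, hN, mul_comm 2 p] at h
    exact Nat.eq_of_mul_eq_mul_left hp.pos h
  have hmemN : ∀ g : G, g * x * g⁻¹ ∈ zpowers x → g ∈ N := by
    intro g hg
    have hle : zpowers (g * x * g⁻¹) = zpowers x := by
      refine Subgroup.eq_of_le_of_card_ge (zpowers_le.2 hg) (le_of_eq ?_)
      rw [Nat.card_zpowers, Nat.card_zpowers]
      simpa using (MulEquiv.orderOf_eq (MulAut.conj g) x).symm
    rw [hNdef, Subgroup.mem_normalizer_iff, ← hPx]
    intro h
    constructor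
    · rintro ⟨n, rfl⟩
      rw [← conj_zpow]
      exact zpow_mem hg n
    · intro hh
      rw [← hle] at hh
      obtain ⟨n, hn⟩ := hh
      simp only [conj_zpow, mul_left_inj, mul_right_inj] at hn
      exact ⟨n, hn⟩
  -- no element of `N` outside `P` centralises `P`
  have hcent : ∀ g : G, g * x = x * g → g ∈ zpowers x := by
    intro g hgx
    by_contra hg
    have hgN : g ∈ N := hmemN g (by rw [hgx, mul_inv_cancel_right]; exact mem_zpowers x)
    have hNC : N ≤ Subgroup.centralizer ((P : Subgroup G) : Set G) := by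
      intro n hn
      have hxn : n * x = x * n := by
        by_cases hnP : n ∈ (P : Subgroup G)
        · rw [← hPx] at hnP
          obtain ⟨i, rfl⟩ := hnP
          exact ((Commute.refl x).zpow_left i).eq
        · have hm : n * g ∈ (P : Subgroup G) := by
            have := (Subgroup.mul_mem_iff_of_index_two hidx (a := (⟨n, hn⟩ : N)) (b := ⟨g, hgN⟩)).2
              (by
                simp only [Subgroup.mem_subgroupOf]
                exact iff_of_false hnP (hPx ▸ hg))
            simpa [Subgroup.mem_subgroupOf] using this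
          rw [← hPx] at hm
          obtain ⟨i, hi⟩ := hm
          have e : n = x ^ i * g⁻¹ := eq_mul_inv_of_mul_eq hi.symm
          rw [e]
          exact (((Commute.refl x).zpow_left i).mul_left (Commute.inv_left hgx)).eq
      rw [Subgroup.mem_centralizer_iff]
      intro h hh
      rw [← hPx, SetLike.mem_coe] at hh
      obtain ⟨i, rfl⟩ := hh
      exact ((Commute.zpow_right (hxn : Commute n x) i).symm).eq
    have hcompl := MonoidHom.ker_transferSylow_isComplement' P hNC
    set K := (MonoidHom.transferSylow P hNC).ker with hK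
    have hKn : K.Normal := MonoidHom.normal_ker _
    have hKP : Nat.card K * p = Nat.card G := by rw [← hcard]; exact hcompl.card_mul_card
    have hKidx : Nat.card K = (P : Subgroup G).index := by
      have h := (P : Subgroup G).card_mul_index
      rw [hcard, ← hKP, mul_comm] at h
      exact (Nat.eq_of_mul_eq_mul_right hp.pos h).symm
    have hK1 : K ≠ ⊥ := by
      intro e
      rw [e, Subgroup.card_bot, one_mul] at hKP
      have h1 := Subgroup.card_le_card_group N
      rw [hN, ← hKP] at h1
      have := hp.pos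
      omega
    have hfix : MulAction.fixedPoints K α ≠ Set.univ := by
      intro e
      refine hK1 ((Subgroup.eq_bot_iff_forall _).2 fun k hk => ?_)
      refine eq_of_smul_eq_smul (α := α) fun b => ?_
      have hb : b ∈ MulAction.fixedPoints K α := e ▸ Set.mem_univ b
      rw [one_smul]
      exact hb ⟨k, hk⟩
    haveI := MulAction.IsQuasiPreprimitive.isPretransitive_of_normal hfix
    have h2 : Nat.card α ∣ Nat.card K :=
      MulAction.index_stabilizer_of_transitive K a ▸ Subgroup.index_dvd_card _
    exact P.not_dvd_index (hKidx ▸ hdvd.trans h2)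
  have hnorm : ∀ g : G, g * x * g⁻¹ ∈ zpowers x → g * x * g⁻¹ = x ∨ g * x * g⁻¹ = x⁻¹ := by
    intro g hg
    have hgN := hmemN g hg
    have hgg : g * g ∈ zpowers x := by
      have := Subgroup.mul_self_mem_of_index_two hidx (⟨g, hgN⟩ : N)
      rw [Subgroup.mem_subgroupOf] at this
      rw [hPx]
      simpa using this
    obtain ⟨k, hk⟩ := (isOfFinOrder_of_finite x).mem_powers_iff_mem_zpowers.2 hg
    simp only at hk
    have hggx : g * (g * x * g⁻¹) * g⁻¹ = x := by
      obtain ⟨i, hi⟩ := hgg
      have hc : Commute (g * g) x := hi ▸ (Commute.refl x).zpow_left i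
      calc g * (g * x * g⁻¹) * g⁻¹ = (g * g) * x * (g * g)⁻¹ := by group
        _ = x := by rw [hc.eq, mul_inv_cancel_right]
    rw [← hk, ← conj_pow, ← hk, ← pow_mul] at hggx
    have hmod : k * k ≡ 1 [MOD p] := by
      rw [← hx, ← pow_eq_pow_iff_modEq, hggx, pow_one]
    have hz : ((k : ZMod p)) ^ 2 = 1 := by
      rw [sq, ← Nat.cast_mul, ← Nat.cast_one, ZMod.natCast_eq_natCast_iff]
      exact hmod
    rw [← hk]
    rcases sq_eq_one_iff.1 hz with h | h
    · left
      conv_rhs => rw [← pow_one x]
      rw [pow_eq_pow_iff_modEq, hx]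
      exact (ZMod.natCast_eq_natCast_iff _ _ _).1 (by rw [h, Nat.cast_one])
    · right
      refine eq_inv_of_mul_eq_one_left ?_
      rw [← pow_succ, ← orderOf_dvd_iff_pow_eq_one, hx, ← ZMod.natCast_eq_zero_iff]
      push_cast
      rw [h, neg_add_cancel]
  have hinv : ∃ t : G, t * x * t⁻¹ = x⁻¹ := by
    obtain ⟨g, hgN, hgP⟩ : ∃ g ∈ N, g ∉ (P : Subgroup G) := by
      by_contra h
      push Not at h
      have := Subgroup.card_le_of_le (show N ≤ (P : Subgroup G) from h)
      rw [hN, hcard] at this
      have := hp.pos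
      omega
    have hmem : g * x * g⁻¹ ∈ zpowers x := by
      rw [hPx]
      exact (Subgroup.mem_normalizer_iff.1 hgN x).1 (hPx ▸ mem_zpowers x)
    rcases hnorm g hmem with h | h
    · exact absurd (hPx ▸ hcent g (by rw [← mul_inv_eq_iff_eq_mul]; exact h)) hgP
    · exact ⟨g, h⟩
  refine ⟨⟨x, hx, hcent, hinv, hnorm, fun g hg => ?_⟩, hcard, hPx⟩
  obtain ⟨Q, hQ⟩ := (IsPGroup.of_card (n := 1) (by rw [Nat.card_zpowers, hg, pow_one]) :
    IsPGroup p (zpowers g)).exists_le_sylow
  obtain ⟨c, hc⟩ := MulAction.exists_smul_eq G Q P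
  refine ⟨c, hPx ▸ ?_⟩
  rw [← hc]
  change c * g * c⁻¹ ∈ MulAut.conj c • (Q : Subgroup G)
  exact Subgroup.smul_mem_pointwise_smul g (MulAut.conj c) _ (hQ (mem_zpowers g))

variable {G : Type*} [Group G] [Fintype G]

/-- When all orbitals are self-paired, the indicator of the permutation character is the rank. -/
theorem fs_permChar {X : Type*} [MulAction G X] [Finite X]
    (hsym : ∀ a b : X, ∃ g : G, g • a = b ∧ g • b = a) :
    H26.fsIndicator (H26.permChar (G := G) X) =
      Cfsg.classInner (H26.permChar (G := G) X) (H26.permChar X) := by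
  classical
  haveI : Fintype X := Fintype.ofFinite X
  rw [H26.classInner_permChar_self, ← H26.classInner_permChar_one, H26.fsIndicator,
    Cfsg.classInner]
  congr 1
  simp only [map_one, mul_one, H26.permChar, ← Nat.cast_sum]
  congr 1
  have h1 : ∀ g : G, Nat.card (MulAction.fixedBy X (g * g))
      = #{q : X × X | g • q = q.swap} := by
    intro g
    rw [← Fintype.card_subtype, ← Nat.card_eq_fintype_card]
    refine Nat.card_congr ⟨fun a => ⟨(a.1, g • a.1), ?_⟩, fun q => ⟨q.1.1, ?_⟩, fun a => rfl,
      fun q => ?_⟩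
    · exact Prod.ext rfl (by
        have := a.2
        rw [MulAction.mem_fixedBy, mul_smul] at this
        exact this)
    · have h2 := q.2
      rw [Prod.ext_iff] at h2
      rw [MulAction.mem_fixedBy, mul_smul]
      exact (congrArg (g • ·) h2.1).trans h2.2
    · exact Subtype.ext (Prod.ext rfl (Prod.ext_iff.1 q.2).1)
  have h2 : ∀ q : X × X, #{g : G | g • q = q.swap} = #{g : G | g • q = q} := by
    intro q
    obtain ⟨h, hh1, hh2⟩ := hsym q.1 q.2
    have hq : h • q = q.swap := Prod.ext hh1 hh2
    refine Finset.card_bij (fun g _ => h⁻¹ * g) ?_ ?_ ?_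
    · intro g hg
      rw [Finset.mem_filter] at hg ⊢
      exact ⟨Finset.mem_univ _, by rw [mul_smul, hg.2, ← hq, inv_smul_smul]⟩
    · intro a _ b _ hab
      exact mul_left_cancel hab
    · intro g hg
      refine ⟨h * g, ?_, by group⟩
      rw [Finset.mem_filter] at hg ⊢
      exact ⟨Finset.mem_univ _, by rw [mul_smul, hg.2, hq]⟩
  have h3 : ∀ g : G, Nat.card (MulAction.fixedBy (X × X) g) = #{q : X × X | g • q = q} := by
    intro g
    rw [← Fintype.card_subtype, ← Nat.card_eq_fintype_card]
    rfl
  simp only [h1, h3, Finset.card_filter]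
  rw [Finset.sum_comm, Finset.sum_comm (f := fun g q => if g • q = q then 1 else 0)]
  simp only [← Finset.card_filter]
  exact Finset.sum_congr rfl fun q _ => h2 q

end Cfsg.Agent.H63.HalfNorm
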