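import Cfsg.Agent.H63.HalfNorm.Basic
import Cfsg.Agent.H63.HalfNorm.Exterior

/-!
# The exterior square of the character of degree `p - 1` is the sum of the exceptional characters
-/

set_option autoImplicit false
set_option linter.unusedSectionVars false

namespace Cfsg.Agent.H63.HalfNorm

open Finset ComplexConjugate Subgroup

variable {G : Type*} [Group G] [Fintype G] {p : ℕ} [Fact p.Prime]

/-- An integer family with squares summing to `1` has a single nonzero term. -/
theorem sq_sum_one {ι : Type*} [DecidableEq ι] (s : Finset ι) (f : ι → ℤ)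
    (h : ∑ i ∈ s, f i ^ 2 = 1) :
    ∃ a ∈ s, (f a = 1 ∨ f a = -1) ∧ ∀ b ∈ s, b ≠ a → f b = 0 := by
  obtain ⟨a, ha, hfa⟩ := Finset.exists_ne_zero_of_sum_ne_zero (by rw [h]; exact one_ne_zero)
  have h1 : 0 < f a ^ 2 := lt_of_le_of_ne (sq_nonneg _) (Ne.symm hfa)
  have h2 : f a ^ 2 ≤ 1 := h ▸ Finset.single_le_sum (fun i _ => sq_nonneg (f i)) ha
  refine ⟨a, ha, sq_eq_one_iff.1 (by omega), fun b hb hne => ?_⟩
  rw [← Finset.add_sum_erase _ _ ha] at h
  have h3 := (Finset.sum_eq_zero_iff_of_nonneg (fun i _ => sq_nonneg (f i))).1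
    (by omega : ∑ i ∈ s.erase a, f i ^ 2 = 0) b (Finset.mem_erase.2 ⟨hne, hb⟩)
  simpa using h3

/-- The hypotheses on the character. -/
structure Datum (G : Type*) [Group G] [Fintype G] (p : ℕ) [Fact p.Prime] extends Setup G p where
  A : Cfsg.IrrCharacter G
  big : 3 < p
  deg : A.1 1 = (p : ℂ) - 1
  val : ∀ j : ZMod p, j ≠ 0 → A.1 (toSetup.e j) = -1
  orth : H26.fsIndicator A.1 = 1

namespace Datum

variable (T : Datum G p)

include T in
theorem p_ne_two : p ≠ 2 := by have := T.big; omega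

theorem A_ne_one : T.A ≠ H26.oneIrr G := by
  intro h
  have h1 := T.deg
  rw [h, H26.oneIrr_val, eq_sub_iff_add_eq] at h1
  have h2 : ((2 : ℕ) : ℂ) = (p : ℂ) := by norm_num [← h1]
  have := Nat.cast_injective h2
  have := T.big
  omega

/-- The exceptional character attached to `k`. -/
theorem exists_exc {k : ZMod p} (hk : k ≠ 0) :
    ∃ φ : Cfsg.IrrCharacter G, φ ≠ H26.oneIrr G ∧ φ ≠ T.A ∧ φ.1 1 = (p : ℂ) - 2 ∧
      ∀ g, T.D k g = 1 - T.A.1 g + φ.1 g := by
  classical
  obtain ⟨d, hd⟩ := H57.gen_exists_coef (T.D_isGen k)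
  have hcoef : ∀ χ : Cfsg.IrrCharacter G, (d χ : ℂ) = Cfsg.classInner (T.D k) χ.1 := fun χ => by
    rw [hd]; exact (H57.inner_coef d χ).symm
  have hone : d (H26.oneIrr G) = 1 := by
    have := T.inner_D_const hk (H26.irr_isClassFunction (H26.oneIrr G)) (c := 1)
      (fun j _ => by simp [H26.oneIrr_val])
    rw [← hcoef] at this
    exact_mod_cast this
  have hA : d T.A = -1 := by
    have := T.inner_D_const hk (H26.irr_isClassFunction T.A) (c := -1)
      (fun j hj => by rw [T.val j hj]; simp)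
    rw [← hcoef] at this
    exact_mod_cast this
  have hsq : ∑ χ, d χ ^ 2 = 3 := by
    have := T.inner_D_self T.p_ne_two hk
    rw [hd, H57.inner_self_coef] at this
    exact_mod_cast this
  rw [← Finset.add_sum_erase _ _ (Finset.mem_univ (H26.oneIrr G)),
    ← Finset.add_sum_erase _ _ (Finset.mem_erase.2 ⟨T.A_ne_one, Finset.mem_univ T.A⟩), hone,
    hA] at hsq
  obtain ⟨φ, hφ, hs, hz⟩ := sq_sum_one _ d (by omega :
    ∑ χ ∈ (univ.erase (H26.oneIrr G)).erase T.A, d χ ^ 2 = 1)
  obtain ⟨hφA, hφ1⟩ : φ ≠ T.A ∧ φ ≠ H26.oneIrr G := by simpa using hφ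
  have hval : ∀ g, T.D k g = 1 - T.A.1 g + d φ * φ.1 g := by
    intro g
    rw [hd, Finset.sum_apply, ← Finset.add_sum_erase _ _ (Finset.mem_univ (H26.oneIrr G)),
      ← Finset.add_sum_erase _ _ (Finset.mem_erase.2 ⟨T.A_ne_one, Finset.mem_univ T.A⟩),
      Finset.sum_eq_single_of_mem φ hφ (fun b hb hne => by simp [hz b hb hne]), hone, hA]
    simp [H26.oneIrr_val]
    ring
  obtain ⟨n, hn0, hn⟩ := H57.irr_degree φ.2
  have h1 := hval 1
  rw [T.D_one, T.deg, hn] at h1
  have hd1 : d φ = 1 := by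
    rcases hs with h | h
    · exact h
    exfalso
    rw [h] at h1
    have h2 : ((p + n : ℕ) : ℂ) = ((2 : ℕ) : ℂ) := by push_cast at h1 ⊢; linear_combination h1
    have := Nat.cast_injective h2
    have := T.big
    omega
  refine ⟨φ, hφ1, hφA, ?_, fun g => by rw [hval g, hd1]; simp⟩
  rw [hd1] at h1
  rw [hn]
  push_cast at h1
  linear_combination -h1

/-- The key identity: `∧²A` and the sum of the exceptional characters agree off the elements of
order `p`. -/
theorem key {g : G} (hg : orderOf g ≠ p) :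
    T.A.1 g ^ 2 - T.A.1 (g * g) = ((p : ℂ) - 1) * (T.A.1 g - 1) := by
  classical
  have hp : p.Prime := Fact.out
  have hbig := T.big
  have hchar : Cfsg.IsCharacter G (extSq T.A.1) := isCharacter_extSq (H26.irr_isCharacter T.A)
  have hcf := H26.isClassFunction_of_isCharacter hchar
  choose m hm using fun χ => H26.exists_nat_classInner_irr hchar χ
  choose dg hdg0 hdg using fun χ : Cfsg.IrrCharacter G => H57.irr_degree χ.2
  haveI : Nonempty (Cfsg.IrrCharacter G) := ⟨H26.oneIrr G⟩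
  choose! φ hφ1 hφA hφdeg hφval using fun k (hk : k ≠ 0) => T.exists_exc (k := k) hk
  have hm0 : m (H26.oneIrr G) = 0 := by
    have := hm (H26.oneIrr G)
    rw [show (H26.oneIrr G).1 = fun _ => (1 : ℂ) from funext fun _ => rfl,
      inner_extSq_one T.A T.orth] at this
    exact_mod_cast this.symm
  have hmφ : ∀ k : ZMod p, k ≠ 0 → m (φ k) = m T.A + 1 := by
    intro k hk
    have hval : ∀ j : ZMod p, j ≠ 0 → extSq T.A.1 (T.e j) = ((1 : ℤ) : ℂ) := by
      intro j hj
      have h2 : j + j ≠ 0 := by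
        intro h
        have h2 : (2 : ZMod p) * j = 0 := by linear_combination h
        rcases mul_eq_zero.1 h2 with h3 | h3
        · have h4 : (p : ℕ) ∣ 2 := (ZMod.natCast_eq_zero_iff 2 p).1 (by exact_mod_cast h3)
          have := Nat.le_of_dvd two_pos h4
          omega
        · exact hj h3
      rw [extSq, ← T.e_add, T.val j hj, T.val _ h2]
      norm_num
    have h1 := T.inner_D_const hk hcf hval
    have hDeq : T.D k = (H26.oneIrr G).1 - T.A.1 + (φ k).1 := funext fun g => by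
      simp [hφval k hk g, H26.oneIrr_val]
    rw [hDeq, H26.classInner_add_left, H26.classInner_sub_left,
      H26.classInner_comm (extSq T.A.1), H26.classInner_comm (extSq T.A.1),
      H26.classInner_comm (extSq T.A.1), hm, hm, hm, hm0] at h1
    simp only [map_natCast, Nat.cast_zero, map_zero, zero_sub, Int.cast_one] at h1
    have h2 : (m (φ k) : ℂ) = ((m T.A + 1 : ℕ) : ℂ) := by push_cast; linear_combination h1
    exact_mod_cast h2
  -- half of the indices
  set K : Finset (ZMod p) := (Finset.Icc 1 ((p - 1) / 2)).image (fun i : ℕ => (i : ZMod p)) with hK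
  have hlift : ∀ a b : ℕ, a < p → b < p → (a : ZMod p) = b → a = b := by
    intro a b ha hb hab
    have := congrArg ZMod.val hab
    rwa [ZMod.val_natCast, ZMod.val_natCast, Nat.mod_eq_of_lt ha, Nat.mod_eq_of_lt hb] at this
  have hK0 : ∀ k ∈ K, k ≠ 0 := by
    intro k hk h
    obtain ⟨i, hi, rfl⟩ := Finset.mem_image.1 hk
    rw [Finset.mem_Icc] at hi
    have := hlift i 0 (by omega) hp.pos (by simpa using h)
    omega
  have hKpm : ∀ k ∈ K, ∀ l ∈ K, k ≠ -l := by
    intro k hk l hl h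
    obtain ⟨i, hi, rfl⟩ := Finset.mem_image.1 hk
    obtain ⟨i', hi', rfl⟩ := Finset.mem_image.1 hl
    rw [Finset.mem_Icc] at hi hi'
    have := hlift (i + i') 0 (by omega) hp.pos (by push_cast; linear_combination h)
    omega
  have hφinj : Set.InjOn φ K := by
    intro k hk l hl he
    by_contra hne
    have h1 := T.inner_D_D T.p_ne_two (hK0 k hk) (hK0 l hl)
    have hD : T.D k = T.D l := funext fun g => by rw [hφval k (hK0 k hk), hφval l (hK0 l hl), he]
    rw [if_neg hne, if_neg (hKpm k hk l hl), hD, T.inner_D_self T.p_ne_two (hK0 l hl)] at h1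
    norm_num at h1
  have hcard : (K.image φ).card = (p - 1) / 2 := by
    rw [Finset.card_image_of_injOn hφinj, hK, Finset.card_image_of_injOn, Nat.card_Icc]
    · omega
    · intro a ha b hb hab
      rw [Finset.coe_Icc, Set.mem_Icc] at ha hb
      exact hlift a b (by omega) (by omega) hab
  have hpodd : 2 * ((p - 1) / 2) = p - 1 := by
    obtain ⟨w, hw⟩ := hp.odd_of_ne_two T.p_ne_two
    omega
  -- degrees
  have hexp : ∀ x, extSq T.A.1 x = ∑ χ, (m χ : ℂ) * χ.1 x := fun x => by
    have h := congrFun (H26.class_function_expansion _ hcf) x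
    simp only [Finset.sum_apply, Pi.smul_apply, smul_eq_mul, hm] at h
    exact h
  have hT : ∀ χ ∈ K.image φ, 1 ≤ m χ ∧ dg χ = p - 2 := by
    intro χ hχ
    obtain ⟨k, hk, rfl⟩ := Finset.mem_image.1 hχ
    refine ⟨by rw [hmφ k (hK0 k hk)]; omega, ?_⟩
    have h1 := hφdeg k (hK0 k hk)
    rw [hdg] at h1
    have h2 : ((dg (φ k) + 2 : ℕ) : ℂ) = (p : ℂ) := by push_cast; linear_combination h1
    have := Nat.cast_injective h2
    omega
  have hsum : 2 * ∑ χ, m χ * dg χ = (p - 1) * (p - 2) := by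
    have h := hexp 1
    rw [extSq, one_mul, T.deg] at h
    apply Nat.cast_injective (R := ℂ)
    push_cast [Nat.cast_sub (by omega : 1 ≤ p), Nat.cast_sub (by omega : 2 ≤ p)]
    rw [Finset.sum_congr rfl fun χ _ => by rw [← hdg χ], ← h]
    ring
  have hTsum : ∑ χ ∈ K.image φ, m χ * dg χ = (∑ χ ∈ K.image φ, m χ) * (p - 2) := by
    rw [Finset.sum_mul]
    exact Finset.sum_congr rfl fun χ hχ => by rw [(hT χ hχ).2]
  have hge : (p - 1) / 2 ≤ ∑ χ ∈ K.image φ, m χ := by
    rw [← hcard, Finset.card_eq_sum_ones]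
    exact Finset.sum_le_sum fun χ hχ => (hT χ hχ).1
  rw [← Finset.sum_add_sum_compl (K.image φ), hTsum] at hsum
  have hle : ((p - 1) / 2) * (p - 2) ≤ (∑ χ ∈ K.image φ, m χ) * (p - 2) :=
    Nat.mul_le_mul_right _ hge
  have hhalf : 2 * (((p - 1) / 2) * (p - 2)) = (p - 1) * (p - 2) := by rw [← mul_assoc, hpodd]
  have heq : ∑ χ ∈ K.image φ, m χ = (p - 1) / 2 :=
    Nat.eq_of_mul_eq_mul_right (by omega : 0 < p - 2) (by omega)
  have hrest : ∀ χ ∈ (K.image φ)ᶜ, m χ = 0 := by
    intro χ hχ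
    have h := Finset.sum_eq_zero_iff.1
      (by omega : ∑ χ ∈ (K.image φ)ᶜ, m χ * dg χ = 0) χ hχ
    rcases mul_eq_zero.1 h with h | h
    · exact h
    · exact absurd h (hdg0 χ).ne'
  have hm1 : ∀ χ ∈ K.image φ, m χ = 1 := by
    intro χ hχ
    by_contra hne
    have h2 : ∑ χ ∈ K.image φ, 1 < ∑ χ ∈ K.image φ, m χ := by
      refine Finset.sum_lt_sum (fun i hi => (hT i hi).1) ⟨χ, hχ, ?_⟩
      have := (hT χ hχ).1
      omega
    rw [← Finset.card_eq_sum_ones, hcard, heq] at h2
    omega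
  have hfin : extSq T.A.1 g = (((p - 1) / 2 : ℕ) : ℂ) * (T.A.1 g - 1) := by
    rw [hexp g, ← Finset.sum_add_sum_compl (K.image φ),
      Finset.sum_eq_zero (s := (K.image φ)ᶜ) (fun χ hχ => by simp [hrest χ hχ]), add_zero,
      ← hcard, ← nsmul_eq_mul, ← Finset.sum_const]
    refine Finset.sum_congr rfl fun χ hχ => ?_
    rw [hm1 χ hχ]
    obtain ⟨k, hk, rfl⟩ := Finset.mem_image.1 hχ
    have h1 := hφval k (hK0 k hk) g
    rw [T.D_support k hg] at h1
    push_cast
    linear_combination -h1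
  have h2 : (2 : ℂ) * (((p - 1) / 2 : ℕ) : ℂ) = (p : ℂ) - 1 := by
    rw [← Nat.cast_one (R := ℂ), ← Nat.cast_sub (by omega : 1 ≤ p), ← hpodd]
    push_cast
    rw [hpodd]
  rw [extSq, div_eq_iff two_ne_zero] at hfin
  linear_combination hfin + (T.A.1 g - 1) * h2

end Datum

end Cfsg.Agent.H63.HalfNorm
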