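import Cfsg.Agent.H63.HalfNorm.Core
import Cfsg.Agent.H45.Galois

/-!
# Values of the character of degree `p - 1`, the order of the group and its involution centralisers
-/

set_option autoImplicit false
set_option linter.unusedSectionVars false

namespace Cfsg.Agent.H63.HalfNorm

open Finset ComplexConjugate Subgroup Module

variable {G : Type*} [Group G] [Fintype G] {p : ℕ} [Fact p.Prime]

/-- An eigenvalue multiplicity as a sum over a cyclic group. -/
theorem exists_mult {χ : G → ℂ} (hχ : Cfsg.IsCharacter G χ) (g : G) {ζ : ℂ}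
    (hζ : ζ ^ orderOf g = 1) :
    ∃ m : ℕ, ∑ i ∈ range (orderOf g), ζ ^ i * χ (g ^ i) = (orderOf g : ℂ) * m := by
  classical
  obtain ⟨n, ρ, rfl⟩ := hχ
  obtain ⟨b, μ, h1, h2, -⟩ := H25.exists_eigenbasis ρ g
  have hpow : ∀ (i : ℕ) l, ρ (g ^ i) (b l) = μ l ^ i • b l := by
    intro i l
    induction i with
    | zero => simp
    | succ i ih => rw [pow_succ', map_mul, End.mul_apply, ih, map_smul, h1, smul_smul, pow_succ]
  have hch : ∀ i, ρ.character (g ^ i) = ∑ l, μ l ^ i := fun i =>
    H25.trace_eq_sum_of_eigenbasis _ b _ fun l => hpow i l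
  refine ⟨(univ.filter fun l => ζ * μ l = 1).card, ?_⟩
  simp only [hch, Finset.mul_sum, ← mul_pow]
  rw [Finset.sum_comm, Finset.natCast_card_filter, Finset.mul_sum]
  refine Finset.sum_congr rfl fun l _ => ?_
  split_ifs with h
  · simp [h]
  · rw [mul_zero, geom_sum_eq h, mul_pow, hζ, h2, one_mul, sub_self, zero_div]

/-- Splitting a sum over `range (2 * r)` by parity. -/
theorem sum_range_two_mul {M : Type*} [AddCommMonoid M] (f : ℕ → M) (r : ℕ) :
    ∑ i ∈ range (2 * r), f i = ∑ j ∈ range r, (f (2 * j) + f (2 * j + 1)) := by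
  induction r with
  | zero => simp
  | succ r ih =>
    rw [show 2 * (r + 1) = 2 * r + 1 + 1 by ring, Finset.sum_range_succ, Finset.sum_range_succ,
      Finset.sum_range_succ (fun j => f (2 * j) + f (2 * j + 1)) r, ih]
    abel

/-- The rational, faithful case. -/
structure RatDatum (G : Type*) [Group G] [Fintype G] (p : ℕ) [Fact p.Prime] extends Datum G p where
  rat : ∀ (g : G) (j : ℕ), j.Coprime (Nat.card G) → A.1 (g ^ j) = A.1 g
  faithful : ∀ g : G, A.1 g = A.1 1 → g = 1

namespace RatDatum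

variable (T : RatDatum G p)
include T

theorem five_le : 5 ≤ p := by
  have h := T.big
  have h4 : p ≠ 4 := fun e => by
    have := (Fact.out : p.Prime)
    rw [e] at this
    norm_num at this
  omega

theorem int_val (g : G) : ∃ n : ℤ, T.A.1 g = n := by
  refine H45.exists_int_of_forall_ringAut (H45.isIntegral_char' (H26.irr_isCharacter T.A) g)
    fun σ => ?_
  obtain ⟨k, hk, hσ⟩ := H45.exists_pow_of_ringAut σ (Nat.card_pos (α := G)).ne'
  rw [H45.ringAut_char (H26.irr_isCharacter T.A) σ hσ, T.rat g k hk]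

theorem pow_val (g : G) {j : ℕ} (hj : j.Coprime (orderOf g)) : T.A.1 (g ^ j) = T.A.1 g := by
  have hd : orderOf g ∣ Nat.card G := orderOf_dvd_natCard g
  haveI : NeZero (Nat.card G) := ⟨Nat.card_pos.ne'⟩
  obtain ⟨u, hu⟩ := ZMod.unitsMap_surjective hd (ZMod.unitOfCoprime j hj)
  have hu' : ((u : ZMod (Nat.card G)).val : ZMod (orderOf g)) = (j : ZMod (orderOf g)) := by
    have h := congrArg Units.val hu
    rw [ZMod.unitsMap_val, ZMod.coe_unitOfCoprime] at h
    rw [← h, ZMod.natCast_val]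
  rw [← pow_eq_pow_iff_modEq.2 ((ZMod.natCast_eq_natCast_iff _ _ _).1 hu')]
  exact T.rat g _ (ZMod.val_coe_unit_coprime u)

/-- Elements of order divisible by `p` have order `p`. -/
theorem orderOf_eq_p {g : G} (h : p ∣ orderOf g) : orderOf g = p := by
  have hp : p.Prime := Fact.out
  have hh : orderOf (g ^ (orderOf g / p)) = p := orderOf_pow_orderOf_div (orderOf_pos g).ne' h
  obtain ⟨c, hc⟩ := T.fuse _ hh
  obtain ⟨j, hj⟩ := T.exists_e hc
  have hj0 : j ≠ 0 := fun e => by
    rw [e, T.e_zero] at hj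
    have h1 : g ^ (orderOf g / p) = 1 := by
      calc g ^ (orderOf g / p) = c⁻¹ * (c * g ^ (orderOf g / p) * c⁻¹) * c := by group
        _ = 1 := by rw [← hj]; group
    rw [h1, orderOf_one] at hh
    exact hp.one_lt.ne hh
  have hcomm : c * g * c⁻¹ * T.e j = T.e j * (c * g * c⁻¹) := by
    rw [hj]; group
  have hx : T.e j ^ (j⁻¹).val = T.x := by
    rw [Setup.e, ← pow_mul, ← T.e_natCast]
    push_cast
    rw [ZMod.natCast_zmod_val, ZMod.natCast_zmod_val, mul_inv_cancel₀ hj0, T.e_one]
  have hmem := T.cent (c * g * c⁻¹) (by rw [← hx]; exact (Commute.pow_right hcomm _).eq)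
  have h2 : orderOf (c * g * c⁻¹) ∣ p := by
    rw [← T.card_P]; exact Subgroup.orderOf_dvd_natCard _ hmem
  rw [show orderOf (c * g * c⁻¹) = orderOf g by
    simpa using MulEquiv.orderOf_eq (MulAut.conj c) g] at h2
  exact Nat.dvd_antisymm h2 h

theorem val_of_orderOf_p {g : G} (h : orderOf g = p) : T.A.1 g = -1 := by
  obtain ⟨j, hj, hgj⟩ := T.isConj_e h
  rw [H26.irr_eq_of_isConj T.A hgj, T.val j hj]

theorem one_val : T.A.1 1 = (((p : ℤ) - 1 : ℤ) : ℂ) := by rw [T.deg]; push_cast; ring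

theorem val_inv {t : G} (ht : orderOf t = 2) : T.A.1 t = 0 := by
  have h := T.key (g := t) (by rw [ht]; exact fun e => T.p_ne_two e.symm)
  rw [show t * t = 1 by rw [← sq, ← ht, pow_orderOf_eq_one], T.deg] at h
  have h0 : T.A.1 t * (T.A.1 t - ((p : ℂ) - 1)) = 0 := by linear_combination h
  refine (mul_eq_zero.1 h0).resolve_right fun h1 => ?_
  have h2 := T.faithful t (by rw [T.deg]; exact sub_eq_zero.1 h1)
  rw [h2, orderOf_one] at ht
  norm_num at ht

theorem val_odd {g : G} (hodd : Odd (orderOf g)) (hp : orderOf g ≠ p) (h1 : g ≠ 1) :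
    T.A.1 g = 1 := by
  have h := T.key hp
  rw [← sq g, T.pow_val g (j := 2) (Nat.coprime_two_left.2 hodd)] at h
  have h0 : (T.A.1 g - 1) * (T.A.1 g - ((p : ℂ) - 1)) = 0 := by linear_combination h
  refine sub_eq_zero.1 ((mul_eq_zero.1 h0).resolve_right fun h2 => h1 ?_)
  exact T.faithful g (by rw [T.deg]; exact sub_eq_zero.1 h2)

theorem four {g : G} (hg : orderOf g = 4) : p = 5 := by
  have h5 := T.five_le
  have h := T.key (g := g) (by rw [hg]; omega)
  have h2 : orderOf (g * g) = 2 := by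
    rw [← sq, orderOf_pow, hg]; rfl
  rw [T.val_inv h2] at h
  obtain ⟨n, hn⟩ := T.int_val g
  rw [hn] at h
  have hZ : n ^ 2 - ((p : ℤ) - 1) * (n - 1) = 0 := by
    have : ((n ^ 2 - ((p : ℤ) - 1) * (n - 1) : ℤ) : ℂ) = ((0 : ℤ) : ℂ) := by
      push_cast; linear_combination h
    exact_mod_cast this
  by_contra hne
  have hp6 : (p : ℤ) ≥ 6 := by omega
  set a := 2 * n - ((p : ℤ) - 1) with ha
  have hsq : a ^ 2 = ((p : ℤ) - 3) ^ 2 - 4 := by rw [ha]; linear_combination 4 * hZ
  have hlt : |a| < (p : ℤ) - 3 := abs_lt_of_sq_lt_sq (by rw [hsq]; omega) (by omega)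
  have hgt : (p : ℤ) - 4 < |a| := by
    by_contra hle
    push Not at hle
    have := pow_le_pow_left₀ (abs_nonneg a) hle 2
    rw [sq_abs, hsq] at this
    nlinarith
  omega

theorem double {g : G} {r : ℕ} (hr : r.Prime) (hr2 : r ≠ 2) (hrp : r ≠ p)
    (hg : orderOf g = 2 * r) : p = 5 := by
  have h5 := T.five_le
  have hrodd : Odd r := hr.odd_of_ne_two hr2
  have hpodd : Odd p := (Fact.out : p.Prime).odd_of_ne_two T.p_ne_two
  have h2r : orderOf g ≠ p := fun e => by
    rw [hg] at e
    exact (Nat.not_even_iff_odd.2 hpodd) (e ▸ even_two_mul r)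
  have hg2 : orderOf (g ^ 2) = r := by
    rw [orderOf_pow' g two_ne_zero, hg, Nat.gcd_mul_right_left, Nat.mul_div_cancel_left r two_pos]
  have hA2 : ∀ j, 0 < j → j < r → T.A.1 (g ^ (2 * j)) = 1 := by
    intro j hj hjr
    have ho : orderOf (g ^ (2 * j)) = r := by
      rw [pow_mul, orderOf_pow' _ hj.ne', hg2, Nat.Coprime.gcd_eq_one, Nat.div_one]
      exact (hr.coprime_iff_not_dvd).2 (fun hd => absurd (Nat.le_of_dvd hj hd) (by omega))
    refine T.val_odd (by rw [ho]; exact hrodd) (by rw [ho]; exact hrp) fun e => ?_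
    rw [e, orderOf_one] at ho
    exact hr.one_lt.ne ho
  have hval1 : T.A.1 g * (T.A.1 g - ((p : ℂ) - 1)) + ((p : ℂ) - 2) = 0 := by
    have h := T.key h2r
    have h1 := hA2 1 one_pos hr.one_lt
    rw [mul_one, sq g] at h1
    rw [h1] at h
    linear_combination h
  obtain ⟨n, hn⟩ := T.int_val g
  have hn' : n = 1 ∨ n = (p : ℤ) - 2 := by
    have hZ : ((n - 1) * (n - ((p : ℤ) - 2)) : ℤ) = 0 := by
      have : (((n - 1) * (n - ((p : ℤ) - 2)) : ℤ) : ℂ) = ((0 : ℤ) : ℂ) := by
        rw [hn] at hval1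
        push_cast; linear_combination hval1
      exact_mod_cast this
    rcases mul_eq_zero.1 hZ with h | h
    · left; omega
    · right; omega
  obtain ⟨u, hu⟩ := hrodd
  have heven : ∀ j ∈ range r, T.A.1 (g ^ (2 * j))
      = 1 + (if j = 0 then (p : ℂ) - 2 else 0) := by
    intro j hj
    rw [mem_range] at hj
    split_ifs with h
    · rw [h, mul_zero, pow_zero, T.deg]; ring
    · rw [hA2 j (Nat.pos_of_ne_zero h) hj, add_zero]
  have hoddv : ∀ j ∈ range r, T.A.1 (g ^ (2 * j + 1))
      = (n : ℂ) - (if j = u then (n : ℂ) else 0) := by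
    intro j hj
    rw [mem_range] at hj
    split_ifs with h
    · rw [h, show 2 * u + 1 = r by omega, sub_self]
      refine T.val_inv ?_
      rw [orderOf_pow' g hr.ne_zero, hg, Nat.gcd_mul_left_left, Nat.mul_div_cancel _ hr.pos]
    · rw [sub_zero, T.pow_val g, hn]
      rw [hg, Nat.coprime_mul_iff_right]
      refine ⟨Nat.coprime_two_right.2 ⟨j, rfl⟩, ?_⟩
      rw [Nat.coprime_comm]
      refine (hr.coprime_iff_not_dvd).2 fun ⟨w, hw⟩ => ?_
      rcases Nat.lt_or_ge w 2 with hw2 | hw2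
      · interval_cases w <;> omega
      · have : r * 2 ≤ r * w := Nat.mul_le_mul_left r hw2
        omega
  obtain ⟨m, hm⟩ := exists_mult (H26.irr_isCharacter T.A) g (ζ := 1) (one_pow _)
  obtain ⟨m', hm'⟩ := exists_mult (H26.irr_isCharacter T.A) g (ζ := -1)
    (by rw [hg, pow_mul]; simp)
  rw [hg, sum_range_two_mul] at hm hm'
  have es0 : ∀ j : ℕ, (-1 : ℂ) ^ (2 * j) = 1 := fun j => by rw [pow_mul, neg_one_sq, one_pow]
  have es1 : ∀ j : ℕ, (-1 : ℂ) ^ (2 * j + 1) = -1 := fun j => by rw [pow_succ, es0, one_mul]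
  simp only [one_pow, one_mul] at hm
  simp only [es0, es1, one_mul, neg_mul] at hm'
  rw [Finset.sum_congr rfl fun j hj => congrArg₂ (· + ·) (heven j hj) (hoddv j hj)] at hm
  rw [Finset.sum_congr rfl fun j hj => congrArg₂ (fun a b => a + -b) (heven j hj) (hoddv j hj)]
    at hm'
  simp only [Finset.sum_add_distrib, Finset.sum_sub_distrib, Finset.sum_const, Finset.card_range,
    Finset.sum_ite_eq', Finset.mem_range, hr.pos, show u < r by omega, if_true, nsmul_eq_mul,
    mul_one, neg_sub] at hm hm'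
  have hmZ : (r : ℤ) + ((p : ℤ) - 2) + ((r : ℤ) * n - n) = 2 * r * m := by
    have : (((r : ℤ) + ((p : ℤ) - 2) + ((r : ℤ) * n - n) : ℤ) : ℂ)
        = ((2 * r * m : ℤ) : ℂ) := by
      push_cast at hm ⊢; linear_combination hm
    exact_mod_cast this
  have hmZ' : (r : ℤ) + ((p : ℤ) - 2) + (n - (r : ℤ) * n) = 2 * r * m' := by
    have : (((r : ℤ) + ((p : ℤ) - 2) + (n - (r : ℤ) * n) : ℤ) : ℂ)
        = ((2 * r * m' : ℤ) : ℂ) := by
      push_cast at hm' ⊢; linear_combination hm'
    exact_mod_cast this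
  by_contra hne
  have hr3 : (3 : ℤ) ≤ r := by have := hr.two_le; omega
  have hp7 : (7 : ℤ) ≤ p := by
    obtain ⟨w, hw⟩ := hpodd
    omega
  rcases hn' with rfl | rfl
  · have hd : (r : ℤ) ∣ 1 := ⟨1 - (m : ℤ) + m', by linarith [hmZ, hmZ']⟩
    have := Int.le_of_dvd one_pos hd
    omega
  · nlinarith

theorem classify (h7 : 7 ≤ p) (g : G) :
    g = 1 ∨ orderOf g = 2 ∨ orderOf g = p ∨ (Odd (orderOf g) ∧ orderOf g ≠ p ∧ g ≠ 1) := by
  by_cases h1 : g = 1
  · exact Or.inl h1
  by_cases hp : orderOf g = p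
  · exact Or.inr (Or.inr (Or.inl hp))
  by_cases hodd : Odd (orderOf g)
  · exact Or.inr (Or.inr (Or.inr ⟨hodd, hp, h1⟩))
  refine Or.inr (Or.inl ?_)
  obtain ⟨k, hk⟩ := Nat.not_odd_iff_even.1 hodd
  rw [← two_mul] at hk
  by_contra h2
  have hk1 : k ≠ 1 := fun e => h2 (by rw [hk, e, mul_one])
  obtain ⟨r, hr, hrk⟩ := Nat.exists_prime_and_dvd hk1
  have hdvd : 2 * r ∣ orderOf g := hk ▸ Nat.mul_dvd_mul_left 2 hrk
  have ho := orderOf_pow_orderOf_div (orderOf_pos g).ne' hdvd
  rcases eq_or_ne r 2 with rfl | hr2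
  · have := T.four (g := g ^ (orderOf g / (2 * 2))) ho; omega
  · have hrp : r ≠ p := fun e => hp (T.orderOf_eq_p (e ▸ (dvd_mul_left r 2).trans hdvd))
    have := T.double hr hr2 hrp ho; omega

/-- The order of the group. -/
theorem card_eq (h7 : 7 ≤ p) : Nat.card G = p * (p - 1) * (p - 2) := by
  classical
  set a : ℕ := #{g : G | orderOf g = p} with ha
  set b : ℕ := #{g : G | Odd (orderOf g) ∧ orderOf g ≠ p ∧ g ≠ 1} with hb
  have hpodd : Odd p := (Fact.out : p.Prime).odd_of_ne_two T.p_ne_two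
  have hval : ∀ g : G, T.A.1 g = (if g = 1 then (p : ℂ) - 1 else 0)
      + (if orderOf g = p then -1 else 0)
      + (if Odd (orderOf g) ∧ orderOf g ≠ p ∧ g ≠ 1 then 1 else 0) := by
    intro g
    rcases T.classify h7 g with rfl | h | h | ⟨h1, h2, h3⟩
    · rw [if_pos rfl, if_neg (by rw [orderOf_one]; omega), if_neg (by simp), T.deg]; ring
    · rw [T.val_inv h, if_neg (fun e => by rw [e, orderOf_one] at h; omega),
        if_neg (by rw [h]; omega), if_neg (fun e => by rw [h] at e; exact absurd e.1 (by decide))]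
      ring
    · rw [T.val_of_orderOf_p h, if_neg (fun e => by rw [e, orderOf_one] at h; omega), if_pos h,
        if_neg (fun e => e.2.1 h)]
      ring
    · rw [T.val_odd h1 h2 h3, if_neg h3, if_neg h2, if_pos ⟨h1, h2, h3⟩]; ring
  have hG : (Nat.card G : ℂ) ≠ 0 := Nat.cast_ne_zero.2 Nat.card_pos.ne'
  have hs1 : ∑ g : G, T.A.1 g = 0 := by
    have h := H26.classInner_irr T.A (H26.oneIrr G)
    rw [if_neg T.A_ne_one, Cfsg.classInner] at h
    simpa [H26.oneIrr_val, hG] using h
  have hs2 : ∑ g : G, T.A.1 g ^ 2 = Nat.card G := by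
    have h := H26.classInner_irr T.A T.A
    rw [if_pos rfl, Cfsg.classInner, inv_mul_eq_iff_eq_mul₀ hG, mul_one] at h
    rw [← h]
    refine Finset.sum_congr rfl fun g _ => ?_
    obtain ⟨n, hn⟩ := T.int_val g
    rw [hn, map_intCast, sq]
  have hsq : ∀ g : G, T.A.1 g ^ 2 = (if g = 1 then ((p : ℂ) - 1) ^ 2 else 0)
      + (if orderOf g = p then 1 else 0)
      + (if Odd (orderOf g) ∧ orderOf g ≠ p ∧ g ≠ 1 then 1 else 0) := by
    intro g
    rw [hval g]
    by_cases h1 : g = 1
    · subst h1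
      simp [orderOf_one, show (1 : ℕ) ≠ p by omega]
    by_cases h2 : orderOf g = p
    · simp [h1, h2]
    · simp [h1, h2]
  rw [Finset.sum_congr rfl fun g _ => hval g] at hs1
  rw [Finset.sum_congr rfl fun g _ => hsq g] at hs2
  simp only [Finset.sum_add_distrib, Finset.sum_ite_eq', Finset.mem_univ, if_true,
    Finset.sum_ite, Finset.sum_const_zero, add_zero, Finset.sum_const, nsmul_eq_mul, mul_one,
    ← ha, ← hb] at hs1 hs2
  have hsp := T.sum_order_p T.p_ne_two (F := fun _ : G => (1 : ℂ)) (fun _ _ => rfl)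
  simp only [Finset.sum_const, nsmul_eq_mul, mul_one, ← ha,
    Finset.card_erase_of_mem (Finset.mem_univ _), Finset.card_univ, ZMod.card] at hsp
  rw [Nat.cast_sub (by omega : 1 ≤ p), Nat.cast_one] at hsp
  have key : (Nat.card G : ℂ) = (p : ℂ) * ((p : ℂ) - 1) * ((p : ℂ) - 2) := by
    linear_combination -(p : ℂ) * hs2 + (p : ℂ) * hs1 + hsp
  apply Nat.cast_injective (R := ℂ)
  push_cast [Nat.cast_sub (by omega : 1 ≤ p), Nat.cast_sub (by omega : 2 ≤ p)]
  exact key

/-- Elements commuting with an involution are involutions or trivial. -/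
theorem centralizer_inv (h7 : 7 ≤ p) {t g : G} (ht : orderOf t = 2) (hc : g * t = t * g) :
    g * g = 1 := by
  rcases T.classify h7 g with rfl | h | h | ⟨h1, h2, h3⟩
  · simp
  · rw [← sq, ← h, pow_orderOf_eq_one]
  all_goals exfalso
  all_goals have hcomm : Commute g t := hc
  · have hodd : Odd (orderOf g) := h ▸ (Fact.out : p.Prime).odd_of_ne_two T.p_ne_two
    have ho := hcomm.orderOf_mul_eq_mul_orderOf_of_coprime
      (by rw [ht]; exact Nat.coprime_two_right.2 hodd)
    have := T.orderOf_eq_p (g := g * t) (by rw [ho, h]; exact dvd_mul_right _ _)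
    rw [ho, ht, h] at this
    omega
  · have ho := hcomm.orderOf_mul_eq_mul_orderOf_of_coprime
      (by rw [ht]; exact Nat.coprime_two_right.2 h1)
    rw [ht] at ho
    have hne1 : orderOf g ≠ 1 := fun e => h3 (orderOf_eq_one_iff.1 e)
    rcases T.classify h7 (g * t) with h | h | h | ⟨h, -, -⟩
    · rw [h, orderOf_one] at ho; omega
    · rw [h] at ho; omega
    · exact Nat.not_odd_iff_even.2 ⟨orderOf g, by omega⟩
        (h ▸ (Fact.out : p.Prime).odd_of_ne_two T.p_ne_two : Odd (orderOf (g * t)))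
    · exact Nat.not_odd_iff_even.2 ⟨orderOf g, by omega⟩ h

/-- `p - 1` is a power of two. -/
theorem two_pow (h7 : 7 ≤ p) : ∃ a : ℕ, p - 1 = 2 ^ a := by
  classical
  haveI : Fact (Nat.Prime 2) := ⟨Nat.prime_two⟩
  have hG := T.card_eq h7
  have hpodd : Odd p := (Fact.out : p.Prime).odd_of_ne_two T.p_ne_two
  obtain ⟨w, hw⟩ := hpodd
  have h2G : 2 ∣ Nat.card G := by
    rw [hG]; exact dvd_mul_of_dvd_left (dvd_mul_of_dvd_right ⟨w, by omega⟩ _) _
  set q := 2 ^ (Nat.card G).factorization 2 with hq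
  have hsyl : ∀ t : G, orderOf t = 2 → Nat.card (centralizer ({t} : Set G)) = q := by
    intro t ht
    have hexp : ∀ g ∈ centralizer ({t} : Set G), g * g = 1 := fun g hg =>
      T.centralizer_inv h7 ht (Subgroup.mem_centralizer_singleton_iff.1 hg)
    have hC : IsPGroup 2 (centralizer ({t} : Set G)) := fun g =>
      ⟨1, Subtype.ext (by simpa [sq] using hexp g.1 g.2)⟩
    obtain ⟨P, hP⟩ := hC.exists_le_sylow
    have htP : t ∈ (P : Subgroup G) := hP (Subgroup.mem_centralizer_singleton_iff.2 rfl)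
    obtain ⟨z, hz, hzc⟩ : ∃ z : G, orderOf z = 2 ∧ ∀ g ∈ (P : Subgroup G), g * z = z * g := by
      haveI : Nontrivial (P : Subgroup G) := by
        refine ⟨⟨⟨t, htP⟩, 1, fun e => ?_⟩⟩
        have := congrArg Subtype.val e
        simp only [Subgroup.coe_one] at this
        rw [this, orderOf_one] at ht
        omega
      haveI := P.2.center_nontrivial
      have h2 : 2 ∣ Nat.card (Subgroup.center (P : Subgroup G)) := by
        obtain ⟨k, hk, hk'⟩ := (P.2.to_subgroup (Subgroup.center (P : Subgroup G))).nontrivial_iff_card.1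
          inferInstance
        exact hk' ▸ dvd_pow_self 2 hk.ne'
      obtain ⟨z, hz⟩ := exists_prime_orderOf_dvd_card' 2 h2
      refine ⟨((z : (P : Subgroup G)) : G), ?_, fun g hg => ?_⟩
      · rw [Subgroup.orderOf_coe, Subgroup.orderOf_coe, hz]
      · exact congrArg Subtype.val (Subgroup.mem_center_iff.1 z.2 ⟨g, hg⟩)
    have hPc : ∀ g ∈ (P : Subgroup G), g * g = 1 := fun g hg => T.centralizer_inv h7 hz (hzc g hg)
    have hle : (P : Subgroup G) ≤ centralizer ({t} : Set G) := by
      intro g hg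
      rw [Subgroup.mem_centralizer_singleton_iff]
      have h1 : g = g⁻¹ := eq_inv_of_mul_eq_one_left (hPc g hg)
      have h2 : t = t⁻¹ := eq_inv_of_mul_eq_one_left (hPc t htP)
      have h3 : g * t = (g * t)⁻¹ := eq_inv_of_mul_eq_one_left (hPc _ (mul_mem hg htP))
      rw [mul_inv_rev, ← h1, ← h2] at h3
      exact h3
    rw [le_antisymm hP hle, P.card_eq_multiplicity]
  -- the number of involutions
  set c : ℕ := #{g : G | orderOf g = 2} with hc
  have hdvd : Nat.card G ∣ c * q := by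
    rw [hc, Finset.card_eq_sum_card_image ConjClasses.mk, Finset.sum_mul]
    refine Finset.dvd_sum fun C hC => ?_
    obtain ⟨t, ht, rfl⟩ := Finset.mem_image.1 hC
    rw [Finset.mem_filter] at ht
    rw [← hsyl t ht.2, ← H26.card_class_mul_card_centralizer t]
    refine dvd_of_eq ?_
    congr 1
    refine congrArg Finset.card (Finset.ext fun g => ?_)
    simp only [Finset.mem_filter, Finset.mem_univ, true_and, ConjClasses.mk_eq_mk_iff_isConj]
    refine ⟨fun h => ⟨?_, h⟩, fun h => h.2⟩
    obtain ⟨d, rfl⟩ := isConj_iff.1 h.symm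
    simpa using (MulEquiv.orderOf_eq (MulAut.conj d) t).trans ht.2
  have hcount : c + #{g : G | orderOf g = p} + #{g : G | Odd (orderOf g) ∧ orderOf g ≠ p ∧ g ≠ 1}
      + 1 = Nat.card G := by
    rw [Nat.card_eq_fintype_card, ← Finset.card_univ, hc, ← Finset.card_union_of_disjoint,
      ← Finset.card_union_of_disjoint, ← Finset.card_singleton (1 : G),
      ← Finset.card_union_of_disjoint]
    · refine congrArg Finset.card (Finset.eq_univ_iff_forall.2 fun g => ?_)
      simp only [Finset.mem_union, Finset.mem_filter, Finset.mem_univ, true_and,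
        Finset.mem_singleton]
      rcases T.classify h7 g with h | h | h | h <;> tauto
    all_goals rw [Finset.disjoint_left]
    all_goals intro g hg
    all_goals simp only [Finset.mem_union, Finset.mem_filter, Finset.mem_univ, true_and,
      Finset.mem_singleton] at hg ⊢
    · intro h
      subst h
      rw [orderOf_one] at hg
      rcases hg with ((h | h) | ⟨-, -, h⟩)
      · omega
      · omega
      · exact h rfl
    · rintro ⟨ho, hne, -⟩
      rcases hg with h | h
      · rw [h] at ho; exact absurd ho (by decide)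
      · exact hne h
    · rw [hg]; omega
  -- numbers
  have hsp := T.sum_order_p T.p_ne_two (F := fun _ : G => (1 : ℂ)) (fun _ _ => rfl)
  simp only [Finset.sum_const, nsmul_eq_mul, mul_one,
    Finset.card_erase_of_mem (Finset.mem_univ _), Finset.card_univ, ZMod.card] at hsp
  set a := #{g : G | orderOf g = p}
  set b := #{g : G | Odd (orderOf g) ∧ orderOf g ≠ p ∧ g ≠ 1}
  have hsp' : 2 * p * a = Nat.card G * (p - 1) := by exact_mod_cast hsp
  have hs1 : (a : ℤ) = (p : ℤ) - 1 + b := by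
    have h := H26.classInner_irr T.A (H26.oneIrr G)
    rw [if_neg T.A_ne_one, Cfsg.classInner] at h
    simp only [H26.oneIrr_val, map_one, mul_one, mul_eq_zero, inv_eq_zero, Nat.cast_eq_zero,
      Nat.card_pos.ne', false_or] at h
    have hval : ∀ g : G, T.A.1 g = (if g = 1 then (p : ℂ) - 1 else 0)
        + (if orderOf g = p then -1 else 0)
        + (if Odd (orderOf g) ∧ orderOf g ≠ p ∧ g ≠ 1 then 1 else 0) := by
      intro g
      rcases T.classify h7 g with rfl | h | h | ⟨h1, h2, h3⟩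
      · rw [if_pos rfl, if_neg (by rw [orderOf_one]; omega), if_neg (by simp), T.deg]; ring
      · rw [T.val_inv h, if_neg (fun e => by rw [e, orderOf_one] at h; omega),
          if_neg (by rw [h]; omega),
          if_neg (fun e => by rw [h] at e; exact absurd e.1 (by decide))]
        ring
      · rw [T.val_of_orderOf_p h, if_neg (fun e => by rw [e, orderOf_one] at h; omega), if_pos h,
          if_neg (fun e => e.2.1 h)]
        ring
      · rw [T.val_odd h1 h2 h3, if_neg h3, if_neg h2, if_pos ⟨h1, h2, h3⟩]; ring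
    rw [Finset.sum_congr rfl fun g _ => hval g] at h
    simp only [Finset.sum_add_distrib, Finset.sum_ite_eq', Finset.mem_univ, if_true,
      Finset.sum_ite, Finset.sum_const_zero, add_zero, Finset.sum_const, nsmul_eq_mul, mul_one]
      at h
    have h' : ((a : ℤ) : ℂ) = (((p : ℤ) - 1 + b : ℤ) : ℂ) := by push_cast; linear_combination -h
    exact_mod_cast h'
  have hc' : c = p * (p - 2) := by
    have hsp2 : 2 * a = (p - 1) * (p - 1) * (p - 2) := by
      refine Nat.eq_of_mul_eq_mul_left (by omega : 0 < p) ?_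
      rw [hG] at hsp'
      calc p * (2 * a) = 2 * p * a := by ring
        _ = p * (p - 1) * (p - 2) * (p - 1) := hsp'
        _ = p * ((p - 1) * (p - 1) * (p - 2)) := by ring
    obtain ⟨r, rfl⟩ : ∃ r, p = r + 2 := ⟨p - 2, by omega⟩
    rw [show r + 2 - 1 = r + 1 by omega, show r + 2 - 2 = r by omega] at *
    rw [hG] at hcount
    push_cast at hs1
    nlinarith
  rw [hc', hG] at hdvd
  have h1 : p - 1 ∣ q := by
    obtain ⟨k, hk⟩ := hdvd
    refine ⟨k, Nat.eq_of_mul_eq_mul_left
      (Nat.mul_pos (by omega) (by omega) : 0 < p * (p - 2)) ?_⟩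
    rw [hk]; ring
  obtain ⟨a', -, ha'⟩ := (Nat.dvd_prime_pow Nat.prime_two).1 h1
  exact ⟨a', ha'⟩

end RatDatum

end Cfsg.Agent.H63.HalfNorm
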